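import Mathlib

/-!
# Cartier's equality for finitely generated field extensions:
`dim Ω[L/K] = trdeg K L + dim H¹(L_{L/K})`.
-/

universe u v

set_option linter.style.haveILetI false

open TensorProduct MvPolynomial

namespace Groth.Agent.CartierEq

/-- A maximal ideal of `F[X_1..X_m]` has height `m` and is generated by `m` elements. -/
theorem height_and_generators (F : Type u) [Field F] : ∀ (m : ℕ) (M : Ideal (MvPolynomial (Fin m) F))
    [M.IsMaximal], M.height = m ∧ ∃ g : Fin m → MvPolynomial (Fin m) F, Ideal.span (Set.range g) = M := by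
  intro m
  induction m with
  | zero =>
    intro M hM
    have hF : IsField (MvPolynomial (Fin 0) F) :=
      MulEquiv.isField (Field.toIsField F) (isEmptyRingEquiv F (Fin 0)).toMulEquiv
    have hbot : M = ⊥ := by
      let _ := hF.toField
      exact (Ideal.eq_bot_or_top M).resolve_right hM.ne_top
    refine ⟨?_, Fin.elim0, ?_⟩
    · rw [hbot, Nat.cast_zero]; exact Ideal.height_bot
    · rw [hbot, Set.range_eq_empty, Ideal.span_empty]
  | succ m ih =>
    intro M hM
    let e := MvPolynomial.finSuccEquiv F m
    let P : Ideal (Polynomial (MvPolynomial (Fin m) F)) := M.comap e.symm.toRingEquiv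
    haveI : P.IsMaximal := Ideal.comap_isMaximal_of_surjective _ e.symm.toRingEquiv.surjective
    haveI hp : (P.comap Polynomial.C).IsMaximal :=
      Polynomial.isMaximal_comap_C_of_isJacobsonRing P
    obtain ⟨hh, g, hg⟩ := ih (P.comap Polynomial.C)
    haveI : P.LiesOver (P.comap Polynomial.C) := ⟨rfl⟩
    have hP : P.height = (m + 1 : ℕ) := by
      rw [Polynomial.height_eq_height_add_one (P.comap Polynomial.C) P, hh]
      simp
    have hne : P ≠ (P.comap Polynomial.C).map Polynomial.C := by
      intro h
      have := Polynomial.height_map_C (P.comap Polynomial.C)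
      rw [← h, hP, hh] at this
      simp only [Nat.cast_inj] at this
      omega
    obtain ⟨f, -, hf⟩ := Polynomial.exists_monic_span_sup_map_eq _ P hp hne
    let G : Fin (m + 1) → Polynomial (MvPolynomial (Fin m) F) :=
      Fin.snoc (α := fun _ => Polynomial (MvPolynomial (Fin m) F)) (fun j => Polynomial.C (g j)) f
    refine ⟨?_, e.symm ∘ G, ?_⟩
    · rw [← hP]
      exact (RingEquiv.height_comap e.symm.toRingEquiv M).symm
    · rw [Set.range_comp, Fin.range_snoc, Set.insert_eq, Set.union_comm]
      have hspan : P = Ideal.span (Set.range (fun j => Polynomial.C (g j)) ∪ {f}) := by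
        rw [Ideal.span_union, ← Function.comp_def, Set.range_comp, ← Ideal.map_span, hg]
        exact hf
      refine (Ideal.map_span e.symm.toRingEquiv _).symm.trans ?_
      rw [← hspan]
      exact Ideal.map_comap_of_surjective _ e.symm.toRingEquiv.surjective M

/-- If `L = F[X_1..X_m]/M` then `M/M²` has dimension `m` over `L`. -/
theorem finrank_cotangent {K F L : Type u} [Field K] [Field F] [Field L] [Algebra K F] [Algebra K L]
    {m : ℕ} (f : MvPolynomial (Fin m) F →ₐ[K] L) (hf : Function.Surjective f) :
    Module.Finite L (Algebra.Extension.ofSurjective f hf).Cotangent ∧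
      Module.finrank L (Algebra.Extension.ofSurjective f hf).Cotangent = m := by
  classical
  let P := Algebra.Extension.ofSurjective f hf
  haveI hM : (P.ker).IsMaximal := RingHom.ker_isMaximal_of_surjective _ P.algebraMap_surjective
  obtain ⟨hh, g, hg⟩ := @height_and_generators F _ m P.ker hM
  have hgm : ∀ i, g i ∈ P.ker := fun i => hg ▸ Ideal.subset_span ⟨i, rfl⟩
  have hspan : Submodule.span L (Set.range fun i => Algebra.Extension.Cotangent.mk (P := P) ⟨g i, hgm i⟩) = ⊤ := by
    rw [eq_top_iff]
    rintro z -
    obtain ⟨⟨y, hy⟩, rfl⟩ := Algebra.Extension.Cotangent.mk_surjective z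
    have hy' : y ∈ Ideal.span (Set.range g) := by rw [hg]; exact hy
    obtain ⟨c, hc⟩ := Ideal.mem_span_range_iff_exists_fun.mp hy'
    have : (⟨y, hy⟩ : P.ker) = ∑ i, c i • (⟨g i, hgm i⟩ : P.ker) := by
      apply Subtype.ext
      simp only [Submodule.coe_sum, Submodule.coe_smul, smul_eq_mul]
      exact hc.symm
    rw [this, map_sum]
    refine Submodule.sum_mem _ fun i _ => ?_
    rw [map_smul, ← algebraMap_smul L (c i)]
    exact Submodule.smul_mem _ _ (Submodule.subset_span ⟨i, rfl⟩)
  haveI : Module.Finite L P.Cotangent := ⟨⟨Finset.univ.image fun i => Algebra.Extension.Cotangent.mk (P := P) ⟨g i, hgm i⟩, by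
    rw [Finset.coe_image, Finset.coe_univ, Set.image_univ]; exact hspan⟩⟩
  refine ⟨inferInstance, le_antisymm ?_ ?_⟩
  · have := finrank_range_le_card (R := L) fun i => Algebra.Extension.Cotangent.mk (P := P) ⟨g i, hgm i⟩
    rw [Set.finrank, hspan, finrank_top, Fintype.card_fin] at this
    exact this
  · let b := Module.finBasis L P.Cotangent
    choose y hy using fun i => Algebra.Extension.Cotangent.mk_surjective (b i)
    have hle : P.ker ≤ Ideal.span (Set.range fun i => (y i).1) ⊔ P.ker ^ 2 := by
      intro x hx
      choose c hc using fun i => P.algebraMap_surjective (b.repr (Algebra.Extension.Cotangent.mk ⟨x, hx⟩) i)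
      have h1 : Algebra.Extension.Cotangent.mk ⟨x, hx⟩ =
          Algebra.Extension.Cotangent.mk (P := P) (∑ i, c i • y i) := by
        rw [map_sum]
        conv_lhs => rw [← b.sum_repr (Algebra.Extension.Cotangent.mk ⟨x, hx⟩)]
        refine Finset.sum_congr rfl fun i _ => ?_
        rw [map_smul, hy, ← algebraMap_smul L (c i), hc]
      rw [Algebra.Extension.Cotangent.mk_eq_mk_iff_sub_mem] at h1
      simp only [Submodule.coe_sum, Submodule.coe_smul, smul_eq_mul] at h1
      rw [← add_sub_cancel (∑ i, c i * (y i).1) x]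
      exact Submodule.add_mem_sup (Ideal.sum_mem _ fun i _ => Ideal.mul_mem_left _ _
        (Ideal.subset_span ⟨i, rfl⟩)) h1
    have hmin : P.ker ∈ (Ideal.span (Set.range fun i => (y i).1)).minimalPrimes := by
      refine ⟨⟨hM.isPrime, Ideal.span_le.mpr (by rintro _ ⟨i, rfl⟩; exact (y i).2)⟩, ?_⟩
      rintro Q ⟨hQ, hIQ⟩ hQM
      let I := Ideal.span (Set.range fun i => (y i).1)
      have hfg : (P.ker.map (Ideal.Quotient.mk I)).FG :=
        Ideal.FG.map ⟨Finset.univ.image g, by rw [Finset.coe_image, Finset.coe_univ, Set.image_univ]; exact hg⟩ _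
      have hnak : P.ker.map (Ideal.Quotient.mk I) ≤ P.ker.map (Ideal.Quotient.mk I) • P.ker.map (Ideal.Quotient.mk I) := by
        rw [smul_eq_mul, ← pow_two, ← Ideal.map_pow]
        refine (Ideal.map_mono hle).trans ?_
        rw [Ideal.map_sup, Ideal.map_quotient_self, bot_sup_eq]
      obtain ⟨r, hr, hr0⟩ := Submodule.exists_sub_one_mem_and_smul_eq_zero_of_fg_of_le_smul _ _ hfg hnak
      intro x hx
      obtain ⟨r, rfl⟩ := Ideal.Quotient.mk_surjective r
      have hrM : r ∉ P.ker := by
        intro h
        have : (1 : P.Ring ⧸ I) ∈ P.ker.map (Ideal.Quotient.mk I) := by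
          have := Ideal.sub_mem _ (Ideal.mem_map_of_mem (Ideal.Quotient.mk I) h) hr
          simpa using this
        rw [Ideal.mem_map_iff_of_surjective _ Ideal.Quotient.mk_surjective] at this
        obtain ⟨z, hz, hz1⟩ := this
        rw [← map_one (Ideal.Quotient.mk I), Ideal.Quotient.eq] at hz1
        have h1 : (1 : P.Ring) ∈ P.ker := by
          have hI : I ≤ P.ker := Ideal.span_le.mpr (by rintro _ ⟨i, rfl⟩; exact (y i).2)
          simpa using Ideal.sub_mem _ hz (hI hz1)
        exact hM.ne_top ((Ideal.eq_top_iff_one _).mpr h1)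
      have := hr0 _ (Ideal.mem_map_of_mem (Ideal.Quotient.mk I) hx)
      rw [smul_eq_mul, ← map_mul, Ideal.Quotient.eq_zero_iff_mem] at this
      exact (hQ.mem_or_mem (hIQ this)).resolve_left fun h => hrM (hQM h)
    haveI : IsNoetherianRing P.Ring := inferInstanceAs (IsNoetherianRing (MvPolynomial (Fin m) F))
    have := (Ideal.height_le_card_of_mem_minimalPrimes_span (Set.finite_range _) hmin).trans
      (show ((Set.range fun i => (y i).1).ncard : ℕ∞) ≤ (Set.range fun i => (y i).1).encard from
        le_of_eq (Set.finite_range _).cast_ncard_eq)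
    have this := (le_of_eq hh.symm).trans this
    have h2 : (Set.range fun i => (y i).1).encard ≤ (Module.finrank L P.Cotangent : ℕ∞) := by
      rw [← Set.image_univ]
      exact (Set.encard_image_le _ _).trans (by simp)
    exact_mod_cast this.trans h2

/-- A finitely generated field extension is a quotient of `F[Y_1..Y_m]`, `F = K(X_1..X_d)`. -/
theorem exists_surjective (K L : Type u) [Field K] [Field L] [Algebra K L] [Algebra.EssFiniteType K L] :
    ∃ (d m : ℕ), Algebra.trdeg K L = d ∧
      ∃ f : MvPolynomial (Fin m) (FractionRing (MvPolynomial (Fin d) K)) →ₐ[K] L, Function.Surjective f := by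
  classical
  obtain ⟨s, hs⟩ := (IntermediateField.fg_top_iff (F := K) (E := L)).mpr inferInstance
  haveI : Algebra.IsAlgebraic (Algebra.adjoin K (s : Set L)) L := by
    rw [← IntermediateField.isAlgebraic_adjoin_iff_top]
    refine ⟨fun x => ?_⟩
    exact isAlgebraic_algebraMap (⟨x, by rw [hs]; trivial⟩ : IntermediateField.adjoin K (s : Set L))
  obtain ⟨t, hts, ht⟩ := exists_isTranscendenceBasis_subset (R := K) (s : Set L)
  haveI : Finite t := (s.finite_toSet.subset hts).to_subtype
  let d := Nat.card t
  let x : Fin d → L := fun i => ((Finite.equivFin t).symm i : L)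
  have hx : IsTranscendenceBasis K x := ht.comp_equiv (Finite.equivFin t).symm
  let F := FractionRing (MvPolynomial (Fin d) K)
  let j : F →ₐ[K] L := IsFractionRing.liftAlgHom (K := F) (g := MvPolynomial.aeval x) hx.1
  letI := j.toRingHom.toAlgebra
  haveI : IsScalarTower K F L := IsScalarTower.of_algebraMap_eq fun a => (j.commutes a).symm
  letI := (MvPolynomial.aeval x : MvPolynomial (Fin d) K →ₐ[K] L).toRingHom.toAlgebra
  haveI : IsScalarTower (MvPolynomial (Fin d) K) F L :=
    IsScalarTower.of_algebraMap_eq fun p => (IsFractionRing.lift_algebraMap (K := F) hx.1 p).symm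
  haveI halg : Algebra.IsAlgebraic F L := by
    haveI : Algebra.IsAlgebraic (MvPolynomial (Fin d) K) L := by
      haveI := hx.isAlgebraic
      refine ⟨fun z => ?_⟩
      exact IsAlgebraic.of_ringHom_of_comp_eq (R := MvPolynomial (Fin d) K)
        (S := Algebra.adjoin K (Set.range x)) (A := L) (B := L)
        (f := hx.1.aevalEquiv.toRingEquiv.toRingHom) (g := RingHom.id L)
        (Algebra.IsAlgebraic.isAlgebraic z) hx.1.aevalEquiv.surjective Function.injective_id
        (by ext <;> simp [RingHom.algebraMap_toAlgebra])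
    exact (IsFractionRing.comap_isAlgebraic_iff (A := MvPolynomial (Fin d) K) (K := F) (C := L)).mp inferInstance
  obtain ⟨m, y, hy⟩ : ∃ (m : ℕ) (y : Fin m → L), Set.range y = (s : Set L) :=
    ⟨_, fun i => (s.equivFin.symm i : L), by ext z; simp [s.equivFin.symm.exists_congr_left]⟩
  refine ⟨d, m, by simpa using hx.lift_cardinalMk_eq_trdeg.symm,
    (MvPolynomial.aeval y : MvPolynomial (Fin m) F →ₐ[F] L).restrictScalars K, ?_⟩
  intro z
  have hz : z ∈ (IntermediateField.adjoin F (s : Set L)).toSubalgebra := by
    have h1 : z ∈ (IntermediateField.adjoin F (s : Set L)).restrictScalars K := by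
      have : IntermediateField.adjoin K (s : Set L) ≤ (IntermediateField.adjoin F (s : Set L)).restrictScalars K :=
        IntermediateField.adjoin_le_iff.mpr (IntermediateField.subset_adjoin F _)
      exact this (by rw [hs]; trivial)
    exact h1
  rw [IntermediateField.adjoin_toSubalgebra_of_isAlgebraic fun w _ => Algebra.IsAlgebraic.isAlgebraic w,
    ← hy, Algebra.adjoin_range_eq_range_aeval] at hz
  exact hz

/-- `F[Y]` with `F = K(X)` is a formally etale algebra over `K[X,Y]`, so smooth with free `Ω`. -/
theorem formallySmooth_and_rank (K : Type u) [Field K] (d m : ℕ) :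
    Algebra.FormallySmooth K (MvPolynomial (Fin m) (FractionRing (MvPolynomial (Fin d) K))) ∧
      ∃ _b : Module.Basis (Fin m ⊕ Fin d) (MvPolynomial (Fin m) (FractionRing (MvPolynomial (Fin d) K)))
        (Ω[MvPolynomial (Fin m) (FractionRing (MvPolynomial (Fin d) K))⁄K]), True := by
  let B := MvPolynomial (Fin m) (MvPolynomial (Fin d) K)
  let A := MvPolynomial (Fin m) (FractionRing (MvPolynomial (Fin d) K))
  let e := MvPolynomial.sumAlgEquiv K (Fin m) (Fin d)
  let ρ : B →+* A := MvPolynomial.map (algebraMap (MvPolynomial (Fin d) K) (FractionRing (MvPolynomial (Fin d) K)))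
  letI : Algebra B A := ρ.toAlgebra
  haveI : IsLocalization ((nonZeroDivisors (MvPolynomial (Fin d) K)).map (MvPolynomial.C (σ := Fin m))) A :=
    MvPolynomial.isLocalization _ _
  letI : Algebra (MvPolynomial (Fin m ⊕ Fin d) K) A := (ρ.comp e.toRingEquiv.toRingHom).toAlgebra
  haveI : IsScalarTower K (MvPolynomial (Fin m ⊕ Fin d) K) A := IsScalarTower.of_algebraMap_eq fun a => by
    change _ = ρ (e (algebraMap K _ a))
    rw [e.commutes]
    simp [ρ, B, A, MvPolynomial.algebraMap_eq, IsScalarTower.algebraMap_apply K (MvPolynomial (Fin d) K)]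
  haveI : IsLocalization (((nonZeroDivisors (MvPolynomial (Fin d) K)).map (MvPolynomial.C (σ := Fin m))).map
      e.toRingEquiv.symm.toMonoidHom) A :=
    IsLocalization.isLocalization_of_base_ringEquiv _ A e.toRingEquiv.symm
  haveI : Algebra.FormallyEtale (MvPolynomial (Fin m ⊕ Fin d) K) A := .of_isLocalization
    (((nonZeroDivisors (MvPolynomial (Fin d) K)).map (MvPolynomial.C (σ := Fin m))).map e.toRingEquiv.symm.toMonoidHom)
  exact ⟨Algebra.FormallySmooth.comp K (MvPolynomial (Fin m ⊕ Fin d) K) A,
    ((KaehlerDifferential.mvPolynomialBasis K (Fin m ⊕ Fin d)).baseChange A).map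
      (KaehlerDifferential.tensorKaehlerEquivOfFormallyEtale K (MvPolynomial (Fin m ⊕ Fin d) K) A), trivial⟩

/-- **Cartier's equality.** -/
theorem cartier_equality (K L : Type u) [Field K] [Field L] [Algebra K L] [Algebra.EssFiniteType K L] :
    Module.Finite L (Ω[L⁄K]) ∧ Module.Finite L (Algebra.H1Cotangent K L) ∧
      Module.finrank L (Ω[L⁄K]) =
        Cardinal.toNat (Algebra.trdeg K L) + Module.finrank L (Algebra.H1Cotangent K L) := by
  obtain ⟨d, m, hd, f, hf⟩ := exists_surjective K L
  obtain ⟨hsm, b, -⟩ := formallySmooth_and_rank K d m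
  obtain ⟨hfin, hcot⟩ := finrank_cotangent f hf
  let P := Algebra.Extension.ofSurjective f hf
  haveI := hfin
  haveI : Algebra.FormallySmooth K P.Ring := hsm
  let bL : Module.Basis (Fin m ⊕ Fin d) L P.CotangentSpace := Module.Basis.baseChange L (R := P.Ring) b
  haveI : Module.Finite L P.CotangentSpace := .of_basis bL
  have hn : Module.finrank L P.CotangentSpace = m + d := by
    rw [Module.finrank_eq_card_basis bL]; simp
  have h1 := P.cotangentComplex.finrank_range_add_finrank_ker
  have h2 := P.toKaehler.finrank_range_add_finrank_ker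
  rw [LinearMap.exact_iff.mp P.exact_cotangentComplex_toKaehler,
    LinearMap.range_eq_top.mpr P.toKaehler_surjective, finrank_top, hn] at h2
  rw [hcot] at h1
  haveI : Module.Finite L P.H1Cotangent :=
    inferInstanceAs (Module.Finite L (LinearMap.ker P.cotangentComplex))
  refine ⟨Module.Finite.of_surjective P.toKaehler P.toKaehler_surjective,
    Module.Finite.equiv P.equivH1CotangentOfFormallySmooth, ?_⟩
  rw [← LinearEquiv.finrank_eq P.equivH1CotangentOfFormallySmooth, hd, Cardinal.toNat_natCast]
  change _ = _ + Module.finrank L (LinearMap.ker P.cotangentComplex)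
  omega

/-- `H¹(L/R) → H¹(L/S)` vanishes if `R → S` factors through `F` with `H¹(L/F) = 0`. -/
theorem h1Cotangent_map_eq_zero.{u₁, u₂, u₃, u₄} (R : Type u₁) (F : Type u₂) (K : Type u₃) (L : Type u₄) [CommRing R] [CommRing F] [CommRing K] [CommRing L]
    [Algebra R F] [Algebra F K] [Algebra R K] [IsScalarTower R F K] [Algebra R L] [Algebra F L]
    [Algebra K L] [IsScalarTower R F L] [IsScalarTower F K L] [IsScalarTower R K L]
    [Subsingleton (Algebra.H1Cotangent F L)] : Algebra.H1Cotangent.map R K L L = 0 := by
  have h : Algebra.H1Cotangent.map R K L L =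
      Algebra.H1Cotangent.map F K L L ∘ₗ Algebra.H1Cotangent.map R F L L := by
    unfold Algebra.H1Cotangent.map
    rw [Algebra.Extension.H1Cotangent.map_eq _
      ((Algebra.Generators.defaultHom (Algebra.Generators.self F L) (Algebra.Generators.self K L)).toExtensionHom.comp
        (Algebra.Generators.defaultHom (Algebra.Generators.self R L) (Algebra.Generators.self F L)).toExtensionHom),
      Algebra.Extension.H1Cotangent.map_comp]
    rfl
  rw [h, show Algebra.H1Cotangent.map R F L L = 0 from LinearMap.ext fun _ => Subsingleton.elim _ _,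
    LinearMap.comp_zero]

end Groth.Agent.CartierEq
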